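import Mathlib.RingTheory.Flat.Equalizer
import Mathlib.LinearAlgebra.TensorProduct.Quotient
import Mathlib.LinearAlgebra.FreeModule.Basic
import Mathlib.RingTheory.Ideal.Quotient.Nilpotent

/-! Modules over a ring with a nilpotent ideal: lifting bases, kernels. -/

set_option autoImplicit false

namespace Groth.Agent.NilFree

open TensorProduct

universe u v w

variable {R : Type u} [CommRing R]

theorem inf_smul_top_le_smul_of_flat {F : Type v} {P : Type w} [AddCommGroup F] [Module R F]
    [AddCommGroup P] [Module R P] [Module.Flat R P] (ψ : F →ₗ[R] P) (hψ : Function.Surjective ψ)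
    (I : Ideal R) : LinearMap.ker ψ ⊓ I • (⊤ : Submodule R F) ≤ I • LinearMap.ker ψ := by
  rintro x ⟨hxK, hxI⟩
  set K := LinearMap.ker ψ
  have hinj := LinearMap.lTensor_injective_of_exact_of_flat ψ hψ K.subtype K.injective_subtype
    (LinearMap.exact_subtype_ker_map ψ) (R ⧸ I)
  have h1 : ((Ideal.Quotient.mk I 1) ⊗ₜ[R] (⟨x, hxK⟩ : K)) = 0 := by
    apply hinj
    rw [LinearMap.lTensor_tmul, map_zero]
    apply (TensorProduct.quotTensorEquivQuotSMul F I).injective
    rw [TensorProduct.quotTensorEquivQuotSMul_mk_tmul, one_smul, map_zero,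
      Submodule.Quotient.mk_eq_zero]
    exact hxI
  have h2 := congrArg (TensorProduct.quotTensorEquivQuotSMul K I) h1
  rw [TensorProduct.quotTensorEquivQuotSMul_mk_tmul, one_smul, map_zero,
    Submodule.Quotient.mk_eq_zero] at h2
  have h3 := Submodule.mem_map_of_mem (f := K.subtype) h2
  rwa [Submodule.map_smul'', Submodule.map_top, Submodule.range_subtype] at h3

theorem eq_bot_of_le_smul_of_isNilpotent {F : Type v} [AddCommGroup F] [Module R F]
    {I : Ideal R} (hI : IsNilpotent I) {K : Submodule R F} (h : K ≤ I • K) : K = ⊥ := by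
  obtain ⟨n, hn⟩ := hI
  have key : ∀ k, K ≤ I ^ k • K := by
    intro k
    induction k with
    | zero => simp
    | succ k ih =>
      calc K ≤ I • K := h
        _ ≤ I • (I ^ k • K) := Submodule.smul_mono le_rfl ih
        _ = I ^ (k + 1) • K := by rw [← Submodule.smul_assoc, smul_eq_mul, ← pow_succ']
  have := key n
  rw [hn] at this
  simpa using this

/-- A surjection to a flat module whose kernel lies in a nilpotent ideal times the source is injective. -/
theorem injective_of_ker_le_smul_of_flat {F : Type v} {P : Type w} [AddCommGroup F] [Module R F]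
    [AddCommGroup P] [Module R P] [Module.Flat R P] (ψ : F →ₗ[R] P) (hψ : Function.Surjective ψ)
    {I : Ideal R} (hI : IsNilpotent I) (h : LinearMap.ker ψ ≤ I • (⊤ : Submodule R F)) :
    Function.Injective ψ :=
  LinearMap.ker_eq_bot.mp <| eq_bot_of_le_smul_of_isNilpotent hI <|
    (le_inf le_rfl h).trans (inf_smul_top_le_smul_of_flat ψ hψ I)

theorem eq_top_of_sup_smul_eq_top {F : Type v} [AddCommGroup F] [Module R F]
    {I : Ideal R} (hI : IsNilpotent I) {N : Submodule R F}
    (h : N ⊔ I • (⊤ : Submodule R F) = ⊤) : N = ⊤ := by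
  obtain ⟨n, hn⟩ := hI
  have key : ∀ k, N ⊔ I ^ k • (⊤ : Submodule R F) = ⊤ := by
    intro k
    induction k with
    | zero => simp
    | succ k ih =>
      refine le_antisymm le_top ?_
      calc ⊤ = N ⊔ I • (⊤ : Submodule R F) := h.symm
        _ ≤ N ⊔ I • (N ⊔ I ^ k • (⊤ : Submodule R F)) := by rw [ih]
        _ ≤ N ⊔ I ^ (k + 1) • (⊤ : Submodule R F) := by
          rw [Submodule.smul_sup, ← Submodule.smul_assoc, smul_eq_mul, ← pow_succ']
          exact sup_le le_sup_left (sup_le (le_trans Submodule.smul_le_right le_sup_left) le_sup_right)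
  have := key n
  rw [hn] at this
  simpa using this

/-- If `M/JM` is free over `R/J` with `J` nilpotent, then `M` is the quotient of a free module by a
submodule of `J • F`. -/
theorem exists_presentation {M : Type v} [AddCommGroup M] [Module R M] (J : Ideal R)
    (hJ : IsNilpotent J) (hfree : Module.Free (R ⧸ J) ((R ⧸ J) ⊗[R] M)) :
    ∃ (ι : Type (max u v)) (φ : (ι →₀ R) →ₗ[R] M), Function.Surjective φ ∧
      LinearMap.ker φ ≤ J • (⊤ : Submodule R (ι →₀ R)) := by
  obtain ⟨⟨ι, b⟩⟩ := hfree.exists_basis
  have hs : Function.Surjective (fun m : M => ((1 : R ⧸ J) ⊗ₜ[R] m)) := by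
    intro x
    obtain ⟨m, hm⟩ := Submodule.Quotient.mk_surjective _ (TensorProduct.quotTensorEquivQuotSMul M J x)
    refine ⟨m, (TensorProduct.quotTensorEquivQuotSMul M J).injective ?_⟩
    rw [← hm, ← map_one (Ideal.Quotient.mk J), TensorProduct.quotTensorEquivQuotSMul_mk_tmul, one_smul]
  choose m hm using fun i => hs (b i)
  let φ := Finsupp.linearCombination R m
  have hφ : ∀ x, ((1 : R ⧸ J) ⊗ₜ[R] φ x) =
      Finsupp.linearCombination (R ⧸ J) b (x.mapRange (Ideal.Quotient.mk J) (map_zero _)) := by
    intro x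
    induction x using Finsupp.induction_linear with
    | zero => simp
    | add x y hx hy =>
      rw [map_add, TensorProduct.tmul_add, hx, hy, Finsupp.mapRange_add (map_add _), map_add]
    | single i r =>
      simp only [φ, Finsupp.linearCombination_single, Finsupp.mapRange_single, TensorProduct.tmul_smul]
      rw [← hm i, ← algebraMap_smul (R ⧸ J) r, Ideal.Quotient.algebraMap_eq]
  refine ⟨ι, φ, LinearMap.range_eq_top.mp (eq_top_of_sup_smul_eq_top hJ (eq_top_iff.mpr ?_)), ?_⟩
  · intro y _
    obtain ⟨x, hx⟩ : ∃ x : ι →₀ R, x.mapRange (Ideal.Quotient.mk J) (map_zero _) =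
        b.repr ((1 : R ⧸ J) ⊗ₜ[R] y) :=
      Finsupp.mapRange_surjective _ (map_zero _) Ideal.Quotient.mk_surjective _
    have h := hφ x
    rw [hx, b.linearCombination_repr] at h
    have h2 := congrArg (TensorProduct.quotTensorEquivQuotSMul M J) h
    rw [← map_one (Ideal.Quotient.mk J), TensorProduct.quotTensorEquivQuotSMul_mk_tmul,
      TensorProduct.quotTensorEquivQuotSMul_mk_tmul, one_smul, one_smul, Submodule.Quotient.eq] at h2
    refine Submodule.mem_sup.mpr ⟨φ x, LinearMap.mem_range_self _ _, y - φ x, ?_, by abel⟩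
    simpa using Submodule.neg_mem _ h2
  · intro x hx
    have h := hφ x
    rw [LinearMap.mem_ker.mp hx, TensorProduct.tmul_zero] at h
    have h2 := b.linearIndependent.finsuppLinearCombination_injective (h.symm.trans (map_zero _).symm)
    rw [← Finsupp.sum_single x]
    refine Submodule.sum_mem _ fun i _ => ?_
    have : x i ∈ J := Ideal.Quotient.eq_zero_iff_mem.mp (by simpa using DFunLike.congr_fun h2 i)
    simpa using Submodule.smul_mem_smul this (Submodule.mem_top (x := Finsupp.single i (1 : R)))

theorem le_smul_top_baseChange {F : Type v} [AddCommGroup F] [Module R F]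
    (S : Type w) [CommRing S] [Algebra R S] (J : Ideal R) :
    ∀ x ∈ J • (⊤ : Submodule R F),
      (1 : S) ⊗ₜ[R] x ∈ J.map (algebraMap R S) • (⊤ : Submodule S (S ⊗[R] F)) := by
  intro x hx
  refine Submodule.smul_induction_on hx (fun r hr n _ => ?_) (fun x y hx hy => ?_)
  · rw [TensorProduct.tmul_smul, ← algebraMap_smul S r]
    exact Submodule.smul_mem_smul (Ideal.mem_map_of_mem _ hr) Submodule.mem_top
  · rw [TensorProduct.tmul_add]; exact Submodule.add_mem _ hx hy

/-- Base change of a surjection with kernel in nilpotent `J • F` to an algebra over which the target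
becomes flat is injective. -/
theorem baseChange_injective {F : Type v} {M : Type w} [AddCommGroup F] [Module R F]
    [AddCommGroup M] [Module R M] (φ : F →ₗ[R] M) (hφ : Function.Surjective φ)
    {J : Ideal R} (hJ : IsNilpotent J) (hker : LinearMap.ker φ ≤ J • (⊤ : Submodule R F))
    (S : Type*) [CommRing S] [Algebra R S] (hflat : Module.Flat S (S ⊗[R] M)) :
    Function.Injective (φ.baseChange S) := by
  refine injective_of_ker_le_smul_of_flat (φ.baseChange S) (LinearMap.lTensor_surjective S hφ)
    (I := J.map (algebraMap R S)) ?_ ?_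
  · obtain ⟨n, hn⟩ := hJ
    exact ⟨n, by rw [← Ideal.map_pow, hn]; exact Ideal.map_bot⟩
  · intro x hx
    obtain ⟨y, rfl⟩ := (lTensor_exact S (LinearMap.exact_subtype_ker_map φ) hφ x).mp hx
    induction y with
    | zero => simp
    | add a b ha hb =>
      rw [map_add]
      have hK : ∀ z, φ.baseChange S ((LinearMap.ker φ).subtype.lTensor S z) = 0 := fun z =>
        (lTensor_exact S (LinearMap.exact_subtype_ker_map φ) hφ _).mpr ⟨z, rfl⟩
      exact Submodule.add_mem _ (ha (hK a)) (hb (hK b))
    | tmul s k =>
      rw [LinearMap.lTensor_tmul, ← mul_one s, ← smul_eq_mul, ← TensorProduct.smul_tmul']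
      exact Submodule.smul_mem _ _ (le_smul_top_baseChange S J _ (hker k.2))

theorem bijective_baseChange {F : Type v} {M : Type w} [AddCommGroup F] [Module R F]
    [AddCommGroup M] [Module R M] (φ : F →ₗ[R] M) (hφ : Function.Surjective φ)
    {J : Ideal R} (hJ : IsNilpotent J) (hker : LinearMap.ker φ ≤ J • (⊤ : Submodule R F))
    (S : Type*) [CommRing S] [Algebra R S] (hflat : Module.Flat S (S ⊗[R] M)) :
    Function.Bijective (φ.baseChange S) :=
  ⟨baseChange_injective φ hφ hJ hker S hflat, LinearMap.lTensor_surjective S hφ⟩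

/-- If the base change kills the kernel of a surjection, the base changed map is injective. -/
theorem baseChange_injective_of_forall {F : Type v} {M : Type w} [AddCommGroup F] [Module R F]
    [AddCommGroup M] [Module R M] (φ : F →ₗ[R] M) (hφ : Function.Surjective φ)
    (S : Type*) [CommRing S] [Algebra R S]
    (h : ∀ k ∈ LinearMap.ker φ, (1 : S) ⊗ₜ[R] k = 0) :
    Function.Injective (φ.baseChange S) := by
  rw [← LinearMap.ker_eq_bot, eq_bot_iff]
  intro x hx
  obtain ⟨y, rfl⟩ := (lTensor_exact S (LinearMap.exact_subtype_ker_map φ) hφ x).mp hx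
  have : (LinearMap.ker φ).subtype.lTensor S = 0 := by
    refine TensorProduct.ext' fun s k => ?_
    rw [LinearMap.lTensor_tmul, Submodule.subtype_apply, LinearMap.zero_apply, ← mul_one s,
      ← smul_eq_mul, ← TensorProduct.smul_tmul', h k.1 k.2, smul_zero]
  rw [Submodule.mem_bot, this]
  rfl

end Groth.Agent.NilFree
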